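import Mathlib.AlgebraicGeometry.Fiber
import Mathlib.AlgebraicGeometry.Morphisms.QuasiFinite
import Mathlib.AlgebraicGeometry.Morphisms.Finite
import Mathlib.AlgebraicGeometry.Morphisms.UniversallyOpen
import Mathlib.AlgebraicGeometry.Morphisms.FiniteType
import Mathlib.AlgebraicGeometry.Noetherian

/-!
# Closed points of fibres, residue field extensions, quasi-finite points
-/

set_option autoImplicit false

universe u

open CategoryTheory CategoryTheory.Limits AlgebraicGeometry

namespace K585.QFinBasic

/-- If `T ⟶ X ⟶ Y` is integral, `T` has one point and `Y` is affine, then the image of `T` in `X`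
has no proper specialization. -/
theorem eq_of_specializes_of_isIntegralHom {T X Y : Scheme.{u}} [IsAffine Y] [Subsingleton T]
    (t : T ⟶ X) (p : X ⟶ Y) [IsIntegralHom (t ≫ p)] (z : T) (y : X) (h : t z ⤳ y) : y = t z := by
  obtain ⟨_, ⟨U, hU, rfl⟩, hyU, -⟩ :=
    X.isBasis_affineOpens.exists_subset_of_mem_open (Set.mem_univ y) isOpen_univ
  have hxU : t z ∈ U := h.mem_open U.isOpen hyU
  have : IsAffine U := hU
  let t' : T ⟶ U := IsOpenImmersion.lift (Scheme.Opens.ι U) t (by
    rw [Scheme.Opens.range_ι]
    rintro _ ⟨w, rfl⟩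
    rw [Subsingleton.elim w z]
    exact hxU)
  have ht : t' ≫ Scheme.Opens.ι U = t := IsOpenImmersion.lift_fac _ _ _
  have h1 : IsIntegralHom (t' ≫ Scheme.Opens.ι U ≫ p) := by
    rw [← Category.assoc, ht]; infer_instance
  have h2 : IsIntegralHom t' := IsIntegralHom.of_comp t' (Scheme.Opens.ι U ≫ p)
  have h3 : IsClosed (Set.range t') := t'.isClosedMap.isClosed_range
  have h4 : ∀ w, Scheme.Opens.ι U (t' w) = t z := fun w => by
    rw [← Scheme.Hom.comp_apply, ht, Subsingleton.elim w z]
  have h5 : t' z ⤳ (⟨y, hyU⟩ : U) :=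
    (Scheme.Opens.ι U).isOpenEmbedding.isInducing.specializes_iff.mp ((h4 z).symm ▸ h)
  obtain ⟨w, hw⟩ := h5.mem_closed h3 ⟨z, rfl⟩
  have := congrArg (Scheme.Opens.ι U) hw
  rw [h4] at this
  exact this.symm

theorem isClosed_singleton_of_forall {X : Type*} [TopologicalSpace X] (x : X)
    (h : ∀ y, x ⤳ y → y = x) : IsClosed ({x} : Set X) := by
  have : closure {x} = {x} := by
    refine Set.Subset.antisymm (fun y hy => ?_) subset_closure
    exact h y (specializes_iff_mem_closure.mpr hy)
  rw [← this]
  exact isClosed_closure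

/-- If the residue field extension is integral, the point is closed in its fibre. -/
theorem isClosed_asFiber {X S : Scheme.{u}} (f : X ⟶ S) (x : X)
    (h : (f.residueFieldMap x).hom.IsIntegral) : IsClosed ({f.asFiber x} : Set (f.fiber (f x))) := by
  have h1 : IsIntegralHom (f.asFiberHom x ≫ f.fiberToSpecResidueField (f x)) := by
    rw [Scheme.Hom.asFiberHom_fiberToSpecResidueField, IsIntegralHom.SpecMap_iff]
    exact h
  refine isClosed_singleton_of_forall _ fun y hy => ?_
  let z : Spec (X.residueField x) := IsLocalRing.closedPoint _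
  have h2 : f.asFiberHom x z = f.asFiber x := f.asFiberHom_apply x z
  rw [← h2] at hy ⊢
  have : Subsingleton (Spec (X.residueField x)) :=
    inferInstanceAs (Subsingleton (PrimeSpectrum (X.residueField x)))
  exact eq_of_specializes_of_isIntegralHom (f.asFiberHom x) (f.fiberToSpecResidueField (f x)) z y hy

/-- A point which is closed in its fibre over a closed point is closed. -/
theorem isClosed_of_isClosed_asFiber {X S : Scheme.{u}} (f : X ⟶ S) (x : X)
    (h : IsClosed ({f.asFiber x} : Set (f.fiber (f x)))) (hs : IsClosed ({f x} : Set S)) :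
    IsClosed ({x} : Set X) := by
  have h1 : ({x} : Set X) = f.fiberι (f x) '' {f.asFiber x} := by simp
  rw [h1]
  have h2 : IsClosed (Set.range (f.fiberι (f x))) := by
    rw [Scheme.Hom.range_fiberι]
    exact hs.preimage f.continuous
  exact (Topology.IsClosedEmbedding.isClosedMap
    ⟨(f.fiberι (f x)).isEmbedding, h2⟩) _ h

set_option backward.isDefEq.respectTransparency.types false in
theorem locallyOfFiniteType_fiber {X S : Scheme.{u}} (f : X ⟶ S) [LocallyOfFiniteType f] (s : S) :
    LocallyOfFiniteType (f.fiberToSpecResidueField s) :=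
  MorphismProperty.pullback_snd _ _ inferInstance

/-- For morphisms locally of finite type: closed in the fibre iff finite residue field extension. -/
theorem isClosed_asFiber_iff {X S : Scheme.{u}} (f : X ⟶ S) [LocallyOfFiniteType f] (x : X) :
    IsClosed ({f.asFiber x} : Set (f.fiber (f x))) ↔ (f.residueFieldMap x).hom.Finite := by
  constructor
  · intro h
    have h1 : IsClosedImmersion (f.asFiberHom x) :=
      .of_isPreimmersion _ (by rw [Scheme.Hom.range_asFiberHom]; exact h)
    have h2 := locallyOfFiniteType_fiber f (f x)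
    have h3 : LocallyOfFiniteType (f.asFiberHom x ≫ f.fiberToSpecResidueField (f x)) :=
      inferInstance
    have : Subsingleton (Spec (X.residueField x)) :=
      inferInstanceAs (Subsingleton (PrimeSpectrum (X.residueField x)))
    have h4 := (isFinite_iff_locallyOfFiniteType_of_jacobsonSpace).mpr h3
    rw [Scheme.Hom.asFiberHom_fiberToSpecResidueField, IsFinite.SpecMap_iff] at h4
    exact h4
  · intro h
    exact isClosed_asFiber f x h.to_isIntegral

/-- The comparison map between fibres in a cartesian square. -/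
theorem exists_fiber_map {X S X' S' : Scheme.{u}} {f : X ⟶ S} {g : S' ⟶ S} {g' : X' ⟶ X}
    {f' : X' ⟶ S'} (hsq : IsPullback g' f' f g) (s' : S') :
    ∃ φ : f'.fiber s' ⟶ f.fiber (g s'),
      IsPullback φ (f'.fiberToSpecResidueField s') (f.fiberToSpecResidueField (g s'))
        (Spec.map (g.residueFieldMap s')) ∧ φ ≫ f.fiberι (g s') = f'.fiberι s' ≫ g' :=
  ⟨_, isPullback_fiberToSpecResidueField_of_isPullback hsq s', pullback.lift_fst _ _ _⟩

/-- Closed points of fibres pull back to closed points of fibres. -/
theorem isClosed_asFiber_baseChange {X S X' S' : Scheme.{u}} (f : X ⟶ S) [LocallyOfFiniteType f]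
    (g : S' ⟶ S) (g' : X' ⟶ X) (f' : X' ⟶ S') (hsq : IsPullback g' f' f g) (x' : X')
    (hx : IsClosed ({f.asFiber (g' x')} : Set (f.fiber (f (g' x'))))) :
    IsClosed ({f'.asFiber x'} : Set (f'.fiber (f' x'))) := by
  obtain ⟨φ, hφ, hφι⟩ := exists_fiber_map hsq (f' x')
  have hgf : f (g' x') = g (f' x') := by
    rw [← Scheme.Hom.comp_apply, ← Scheme.Hom.comp_apply, hsq.w]
  -- the fibre point `x₀` of `X` under `x'`
  have key : ∀ (s : S) (hs : f (g' x') = s) (ψ : f'.fiber (f' x') ⟶ f.fiber s)
      (σ : Spec (S'.residueField (f' x')) ⟶ Spec (S.residueField s))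
      (_ : IsPullback ψ (f'.fiberToSpecResidueField (f' x')) (f.fiberToSpecResidueField s) σ)
      (_ : ψ ≫ f.fiberι s = f'.fiberι (f' x') ≫ g'),
      IsClosed ({f'.asFiber x'} : Set (f'.fiber (f' x'))) := by
    rintro s rfl ψ σ hψ hψι
    have hi : IsClosedImmersion (f.asFiberHom (g' x')) :=
      .of_isPreimmersion _ (by rw [Scheme.Hom.range_asFiberHom]; exact hx)
    have h2 := locallyOfFiniteType_fiber f (f (g' x'))
    have h3 : LocallyOfFiniteType
        (f.asFiberHom (g' x') ≫ f.fiberToSpecResidueField (f (g' x'))) := inferInstance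
    have : Subsingleton (Spec (X.residueField (g' x'))) :=
      inferInstanceAs (Subsingleton (PrimeSpectrum (X.residueField (g' x'))))
    have h4 := (isFinite_iff_locallyOfFiniteType_of_jacobsonSpace).mpr h3
    let j := pullback.snd (f.asFiberHom (g' x')) ψ
    have hj : IsClosedImmersion j := inferInstance
    have hH : IsPullback (pullback.fst (f.asFiberHom (g' x')) ψ)
        (j ≫ f'.fiberToSpecResidueField (f' x'))
        (f.asFiberHom (g' x') ≫ f.fiberToSpecResidueField (f (g' x'))) σ :=
      (IsPullback.of_hasPullback _ ψ).paste_vert hψ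
    have h5 : IsFinite (j ≫ f'.fiberToSpecResidueField (f' x')) :=
      MorphismProperty.of_isPullback hH h4
    have h6 : f'.asFiber x' ∈ Set.range j := by
      rw [Scheme.Pullback.range_snd, Set.mem_preimage, Scheme.Hom.range_asFiberHom,
        Set.mem_singleton_iff]
      apply (f.fiberι (f (g' x'))).isEmbedding.injective
      rw [Scheme.Hom.fiberι_asFiber, ← Scheme.Hom.comp_apply, hψι, Scheme.Hom.comp_apply,
        Scheme.Hom.fiberι_asFiber]
    obtain ⟨w, hw⟩ := h6
    rw [← hw, ← Set.image_singleton]
    have h8 : IsLocallyArtinian (pullback (f.asFiberHom (g' x')) ψ) :=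
      .of_locallyQuasiFinite (j ≫ f'.fiberToSpecResidueField (f' x'))
    have h7 : DiscreteTopology ↥(pullback (f.asFiberHom (g' x')) ψ) := inferInstance
    exact j.isClosedEmbedding.isClosedMap _ (isClosed_discrete _)
  exact key (g (f' x')) hgf φ _ hφ hφι

/-- In a noetherian quasi-sober space, a closed point without proper generizations is open. -/
theorem isOpen_singleton_of_noetherianSpace {Y : Type*} [TopologicalSpace Y]
    [TopologicalSpace.NoetherianSpace Y] [QuasiSober Y] (x : Y)
    (hx : IsClosed ({x} : Set Y)) (h : ∀ y, y ⤳ x → y = x) : IsOpen ({x} : Set Y) := by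
  have h2 : ({x}ᶜ : Set Y) = ⋃ Z ∈ {Z ∈ irreducibleComponents Y | x ∉ Z}, Z := by
    ext y
    simp only [Set.mem_compl_iff, Set.mem_ofPred_eq, Set.mem_iUnion, exists_prop]
    constructor
    · intro hy
      refine ⟨irreducibleComponent y, ⟨irreducibleComponent_mem_irreducibleComponents y, ?_⟩,
        mem_irreducibleComponent⟩
      intro hx'
      obtain ⟨z, hz⟩ := QuasiSober.sober (isIrreducible_irreducibleComponent (x := y))
        isClosed_irreducibleComponent
      have h3 := h z (hz.specializes hx')
      subst h3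
      have h4 : y ∈ closure {z} := by rw [hz.def]; exact mem_irreducibleComponent
      rw [hx.closure_eq] at h4
      exact hy h4
    · rintro ⟨Z, ⟨hZ, hxZ⟩, hyZ⟩ rfl
      exact hxZ hyZ
  have h3 : IsClosed ({x}ᶜ : Set Y) := by
    rw [h2]
    exact (TopologicalSpace.NoetherianSpace.finite_irreducibleComponents.subset
      (Set.sep_subset _ _)).isClosed_biUnion fun Z hZ =>
        isClosed_of_mem_irreducibleComponents Z hZ.1
  simpa using h3.isOpen_compl

theorem isOpen_singleton_of_opens {Y : Type*} [TopologicalSpace Y] (U : TopologicalSpace.Opens Y)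
    (hN : TopologicalSpace.NoetherianSpace U) [QuasiSober Y] (x : Y) (hxU : x ∈ U)
    (hx : IsClosed ({x} : Set Y)) (h : ∀ y, y ⤳ x → y = x) : IsOpen ({x} : Set Y) := by
  have hS : QuasiSober U := U.isOpen.isOpenEmbedding_subtypeVal.quasiSober
  have h4 : IsOpen ({⟨x, hxU⟩} : Set U) := by
    refine isOpen_singleton_of_noetherianSpace _ ?_ ?_
    · have : ({⟨x, hxU⟩} : Set U) = Subtype.val ⁻¹' ({x} : Set Y) := by
        ext y
        exact Subtype.ext_iff
      rw [this]
      exact hx.preimage continuous_subtype_val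
    · intro y hy
      apply Subtype.ext
      exact h y (hy.map continuous_subtype_val)
  have h5 := U.isOpen.isOpenMap_subtype_val _ h4
  rwa [Set.image_singleton] at h5

/-- In a locally noetherian scheme, a closed point without proper generizations is open. -/
theorem isOpen_singleton_of_forall {X : Scheme.{u}} [IsLocallyNoetherian X] (x : X)
    (hx : IsClosed ({x} : Set X)) (h : ∀ y, y ⤳ x → y = x) : IsOpen ({x} : Set X) := by
  obtain ⟨_, ⟨U, hU, rfl⟩, hxU, -⟩ :=
    X.isBasis_affineOpens.exists_subset_of_mem_open (Set.mem_univ x) isOpen_univ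
  have : IsNoetherianRing Γ(X, U) := IsLocallyNoetherian.component_noetherian ⟨U, hU⟩
  exact isOpen_singleton_of_opens U (noetherianSpace_of_isAffineOpen U hU) x hxU hx h

set_option backward.isDefEq.respectTransparency.types false in
theorem isLocallyNoetherian_fiber {X S : Scheme.{u}} (f : X ⟶ S) [LocallyOfFiniteType f] (s : S) :
    IsLocallyNoetherian (f.fiber s) := by
  have := locallyOfFiniteType_fiber f s
  exact LocallyOfFiniteType.isLocallyNoetherian (f.fiberToSpecResidueField s)

/-- Quasi-finite at `x` iff `x` is closed and has no proper generization in its fibre. -/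
theorem quasiFiniteAt_iff {X S : Scheme.{u}} (f : X ⟶ S) [LocallyOfFiniteType f] (x : X) :
    f.QuasiFiniteAt x ↔
      (IsClosed ({f.asFiber x} : Set (f.fiber (f x))) ∧
        ∀ x' : f.fiber (f x), x' ⤳ f.asFiber x → x' = f.asFiber x) := by
  constructor
  · intro h
    have h1 := h.isClopen_singleton_asFiber
    exact ⟨h1.1, fun x' hx' => hx'.mem_open h1.2 rfl⟩
  · rintro ⟨h1, h2⟩
    rw [Scheme.Hom.quasiFiniteAt_iff_isOpen_singleton_asFiber]
    have := isLocallyNoetherian_fiber f (f x)
    exact isOpen_singleton_of_forall _ h1 h2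

/-- The quasi-finite locus is compatible with base change. -/
theorem quasiFiniteAt_baseChange {X S X' S' : Scheme.{u}} (f : X ⟶ S) [LocallyOfFiniteType f]
    (g : S' ⟶ S) (g' : X' ⟶ X) (f' : X' ⟶ S') (hsq : IsPullback g' f' f g) (x' : X') :
    f'.QuasiFiniteAt x' ↔ f.QuasiFiniteAt (g' x') := by
  have hf' : LocallyOfFiniteType f' := MorphismProperty.of_isPullback hsq ‹_›
  obtain ⟨φ, hφ, hφι⟩ := exists_fiber_map hsq (f' x')
  have hgf : f (g' x') = g (f' x') := by
    rw [← Scheme.Hom.comp_apply, ← Scheme.Hom.comp_apply, hsq.w]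
  have key : ∀ (s : S) (hs : f (g' x') = s) (ψ : f'.fiber (f' x') ⟶ f.fiber s)
      (σ : Spec (S'.residueField (f' x')) ⟶ Spec (S.residueField s))
      (_ : IsPullback ψ (f'.fiberToSpecResidueField (f' x')) (f.fiberToSpecResidueField s) σ)
      (_ : ψ ≫ f.fiberι s = f'.fiberι (f' x') ≫ g'),
      (f'.QuasiFiniteAt x' ↔ f.QuasiFiniteAt (g' x')) := by
    rintro s rfl ψ σ hψ hψι
    have h0 : ψ (f'.asFiber x') = f.asFiber (g' x') := by
      apply (f.fiberι (f (g' x'))).isEmbedding.injective
      rw [Scheme.Hom.fiberι_asFiber, ← Scheme.Hom.comp_apply, hψι, Scheme.Hom.comp_apply,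
        Scheme.Hom.fiberι_asFiber]
    constructor
    · intro h
      rw [Scheme.Hom.quasiFiniteAt_iff_isOpen_singleton_asFiber] at h ⊢
      have : Subsingleton (Spec (S.residueField (f (g' x')))) :=
        inferInstanceAs (Subsingleton (PrimeSpectrum (S.residueField (f (g' x')))))
      have h1 : UniversallyOpen σ := inferInstance
      have h2 : UniversallyOpen ψ := MorphismProperty.of_isPullback hψ.flip h1
      have h3 := ψ.isOpenMap _ h
      rwa [Set.image_singleton, h0] at h3
    · intro h
      rw [quasiFiniteAt_iff] at h ⊢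
      have hcl : ∀ z' : X', f' z' = f' x' → IsClosed ({f.asFiber (g' z')} : Set _) →
          IsClosed ({f'.asFiber z'} : Set _) := fun z' _ hz =>
        isClosed_asFiber_baseChange f g g' f' hsq z' hz
      refine ⟨hcl x' rfl h.1, fun z hz => ?_⟩
      have h1 : ψ z = f.asFiber (g' x') := by
        apply h.2
        rw [← h0]
        exact hz.map ψ.continuous
      -- the point `z` of the fibre as a point of `X'`
      have key2 : ∀ (w : X') (hw : f' w = f' x') (z : f'.fiber (f' x')),
          f'.fiberι _ z = w → ψ z = f.asFiber (g' x') → IsClosed ({z} : Set (f'.fiber (f' x'))) := by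
        intro w hw z hzw hψz
        have h2 : g' w = g' x' := by
          rw [← hzw, ← Scheme.Hom.comp_apply, ← hψι, Scheme.Hom.comp_apply, hψz,
            Scheme.Hom.fiberι_asFiber]
        have h3 : IsClosed ({f.asFiber (g' w)} : Set (f.fiber (f (g' w)))) := by
          rw [h2]; exact h.1
        have h4 := hcl w hw h3
        have h5 : ∀ (s : S') (hs : f' w = s) (z : f'.fiber s), f'.fiberι _ z = w →
            IsClosed ({z} : Set (f'.fiber s)) := by
          rintro s rfl z hz
          have : z = f'.asFiber w := by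
            apply (f'.fiberι (f' w)).isEmbedding.injective
            rw [hz, Scheme.Hom.fiberι_asFiber]
          rw [this]
          exact h4
        exact h5 _ hw z hzw
      have hw : f' (f'.fiberι _ z) = f' x' := by
        have : f'.fiberι (f' x') z ∈ Set.range (f'.fiberι (f' x')) := ⟨z, rfl⟩
        rw [Scheme.Hom.range_fiberι] at this
        exact this
      have h6 := key2 _ hw z rfl h1
      have h7 : f'.asFiber x' ∈ ({z} : Set (f'.fiber (f' x'))) := hz.mem_closed h6 rfl
      exact h7.symm
  exact key (g (f' x')) hgf φ _ hφ hφι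

/-- Finiteness of the quasi-finite points in a fibre. -/
theorem finite_quasiFiniteAt {X S : Scheme.{u}} (f : X ⟶ S) [LocallyOfFiniteType f]
    [QuasiCompact f] (s : S) : {x : X | f x = s ∧ f.QuasiFiniteAt x}.Finite := by
  have := isLocallyNoetherian_fiber f s
  have hN : IsNoetherian (f.fiber s) := { }
  let U : Set (f.fiber s) := {z | IsOpen ({z} : Set (f.fiber s))}
  have hU : U.Finite := by
    have h1 : IsCompact U := TopologicalSpace.NoetherianSpace.isCompact U
    refine h1.finite ⟨?_⟩
    rw [discreteTopology_iff_isOpen_singleton]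
    intro z
    have h2 := z.2.preimage (continuous_subtype_val (p := (· ∈ U)))
    convert h2
    ext w
    exact Subtype.ext_iff
  refine (hU.image (f.fiberι s)).subset ?_
  rintro x ⟨rfl, hx⟩
  rw [Scheme.Hom.quasiFiniteAt_iff_isOpen_singleton_asFiber] at hx
  exact ⟨f.asFiber x, hx, f.fiberι_asFiber x⟩

/-- If all points are quasi-finite then the morphism is locally quasi-finite. -/
theorem locallyQuasiFinite_of_forall {X S : Scheme.{u}} (f : X ⟶ S) [LocallyOfFiniteType f]
    (h : ∀ x, f.QuasiFiniteAt x) : LocallyQuasiFinite f := by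
  rw [locallyQuasiFinite_iff_isDiscrete_preimage_singleton]
  intro s
  refine ⟨?_⟩
  rw [discreteTopology_iff_isOpen_singleton]
  rintro ⟨x, hx⟩
  obtain rfl : f x = s := hx
  have h1 := Scheme.Hom.quasiFiniteAt_iff_isOpen_singleton_asFiber.mp (h x)
  rw [← (f.fiberHomeo (f x)).isOpen_image] at h1
  rw [Set.image_singleton] at h1
  convert h1
  simp [Scheme.Hom.asFiber]

theorem locallyQuasiFinite_of_comp {X Y S : Scheme.{u}} (f : X ⟶ Y) (g : Y ⟶ S) [Surjective f]
    [LocallyQuasiFinite (f ≫ g)] [LocallyOfFiniteType (f ≫ g)] [LocallyOfFiniteType g] :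
    LocallyQuasiFinite g := by
  have hcl : ∀ y : Y, IsClosed ({g.asFiber y} : Set (g.fiber (g y))) := by
    intro y
    obtain ⟨x, rfl⟩ := f.surjective y
    have h1 := ((quasiFiniteAt_iff (f ≫ g) x).mp ((f ≫ g).quasiFiniteAt x)).1
    rw [isClosed_asFiber_iff] at h1
    apply isClosed_asFiber
    have h2 : ((f.residueFieldMap x).hom.comp (g.residueFieldMap (f x)).hom).IsIntegral := by
      have e : ((f ≫ g).residueFieldMap x).hom =
        (f.residueFieldMap x).hom.comp (g.residueFieldMap (f x)).hom :=
        congrArg CommRingCat.Hom.hom (Scheme.residueFieldMap_comp f g x)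
      rw [← e]
      exact h1.to_isIntegral
    intro a
    obtain ⟨P, hP, hP0⟩ := h2 ((f.residueFieldMap x).hom a)
    refine ⟨P, hP, ?_⟩
    rw [← Polynomial.hom_eval₂] at hP0
    exact (map_eq_zero (f.residueFieldMap x).hom).mp hP0
  apply locallyQuasiFinite_of_forall
  intro y
  rw [quasiFiniteAt_iff]
  refine ⟨hcl y, fun z hz => ?_⟩
  have h5 : ∀ (s : S) (z : g.fiber s), IsClosed ({z} : Set (g.fiber s)) := by
    intro s z
    have hs : g (g.fiberι s z) = s := by
      have : g.fiberι s z ∈ Set.range (g.fiberι s) := ⟨z, rfl⟩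
      rw [Scheme.Hom.range_fiberι] at this
      exact this
    have key : ∀ (w : Y) (s : S) (hs : g w = s) (z : g.fiber s), g.fiberι s z = w →
        IsClosed ({z} : Set (g.fiber s)) := by
      rintro w s rfl z hz
      have : z = g.asFiber w := by
        apply (g.fiberι (g w)).isEmbedding.injective
        rw [hz, Scheme.Hom.fiberι_asFiber]
      rw [this]
      exact hcl w
    exact key _ s hs z rfl
  have h7 : g.asFiber y ∈ ({z} : Set (g.fiber (g y))) := hz.mem_closed (h5 _ z) rfl
  exact h7.symm

end K585.QFinBasic
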